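import Groth.Agent.Red.K798.NodeL
import Groth.Agent.Red.K332.DecDatum

/-!
# Node L of S16645, modulo node P only
-/

set_option autoImplicit false
universe u

open CategoryTheory MonoidalCategory CartesianMonoidalCategory MonObj GrpObj AlgebraicGeometry

namespace K798.NodeL

open K216.DecDef

/-- NODE L, modulo node P. -/
theorem nodeL_of_nodeP
    (nodeP : ∀ {S : Scheme.{u}} {G H : Over S} [GrpObj G] [GrpObj H] (D : Red.SplitRed G) (E : Red.SplitRed H),
      Red.IsSplitOfType (prodPairing D.P E.P D.pairing_eq E.pairing_eq) (G ⊗ H))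
    {V : Scheme.{u}} [Nonempty V] {G : Over V} [GrpObj G] (D : Red.SplitRed G)
    (hsc : Submodule.span ℤ (Set.range D.P.coroot) = ⊤) :
    ∃ r : ℕ, Nonempty (Dec G (Fin r)) :=
  nodeL_of K332.DecDatum.nodeA nodeP D hsc

end K798.NodeL
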