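import Groth.Agent.Red.K216.DecDef
import Mathlib.LinearAlgebra.RootSystem.Hom
import Mathlib.LinearAlgebra.RootSystem.Finite.Nondegenerate

/-!
# Operations on root data with canonical pairings

* `equivOfDual` : an equivalence from a linear equivalence compatible with roots and coroots.
* `coroot_comp` : conversely.
* `span_coroot_of_equiv` : "the coroots span" is invariant.
* `prodEquiv` : equivalences of direct sums.
-/

set_option autoImplicit false
universe u

namespace K798.DatumOps

open K216.DecDef Module

variable {ι κ M N : Type*} [AddCommGroup M] [AddCommGroup N]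

section

variable {P : RootPairing ι ℤ M (Dual ℤ M)} {Q : RootPairing κ ℤ N (Dual ℤ N)}
  (hP : P.toLinearMap = Dual.eval ℤ M) (hQ : Q.toLinearMap = Dual.eval ℤ N)

/-- An equivalence of root data with canonical pairings. -/
def equivOfDual (e : M ≃ₗ[ℤ] N) (σ : ι ≃ κ) (hr : ∀ i, e (P.root i) = Q.root (σ i))
    (hc : ∀ i m, Q.coroot (σ i) (e m) = P.coroot i m) : RootPairing.Equiv P Q where
  weightMap := e.toLinearMap
  coweightMap := e.toLinearMap.dualMap
  indexEquiv := σ
  weight_coweight_transpose := by
    refine LinearMap.ext fun f => LinearMap.ext fun m => ?_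
    change Q.toLinearMap (e m) f = P.toLinearMap m (e.toLinearMap.dualMap f)
    rw [hP, hQ]
    rfl
  root_weightMap := by
    funext i
    exact hr i
  coroot_coweightMap := by
    funext j
    refine LinearMap.ext fun m => ?_
    have := hc (σ.symm j) m
    rw [Equiv.apply_symm_apply] at this
    exact this
  bijective_weightMap := e.bijective
  bijective_coweightMap := e.dualMap.bijective

include hP hQ in
/-- Compatibility of an equivalence with the coroots. -/
theorem coroot_comp (h : RootPairing.Equiv P Q) (i : ι) (m : M) :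
    Q.coroot (h.indexEquiv i) (h.weightMap m) = P.coroot i m := by
  have h1 : ∀ f : Dual ℤ N, f (h.weightMap m) = (h.coweightMap f) m := by
    intro f
    have h2 := LinearMap.congr_fun (LinearMap.congr_fun h.weight_coweight_transpose f) m
    change Q.toLinearMap (h.weightMap m) f = P.toLinearMap m (h.coweightMap f) at h2
    rw [hP, hQ] at h2
    exact h2
  rw [h1]
  have h2 := congrFun h.coroot_coweightMap (h.indexEquiv i)
  simp only [Function.comp_apply, Equiv.symm_apply_apply] at h2
  rw [h2]

omit hP hQ in
theorem span_coroot_of_equiv (h : RootPairing.Equiv P Q) (hs : Submodule.span ℤ (Set.range Q.coroot) = ⊤) :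
    Submodule.span ℤ (Set.range P.coroot) = ⊤ := by
  have h1 : Set.range P.coroot = h.coweightMap '' Set.range Q.coroot := by
    ext x
    constructor
    · rintro ⟨i, rfl⟩
      refine ⟨Q.coroot (h.indexEquiv i), ⟨_, rfl⟩, ?_⟩
      have h2 := congrFun h.coroot_coweightMap (h.indexEquiv i)
      simpa using h2
    · rintro ⟨_, ⟨j, rfl⟩, rfl⟩
      exact ⟨h.indexEquiv.symm j, (congrFun h.coroot_coweightMap j).symm⟩
  rw [h1, ← Submodule.map_span, hs, Submodule.map_top, LinearMap.range_eq_top]
  exact h.bijective_coweightMap.2

end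

section Prod

variable {ι' κ' M' N' : Type*} [AddCommGroup M'] [AddCommGroup N']
  [Module.Finite ℤ M] [Module.Free ℤ M] [Module.Finite ℤ N] [Module.Free ℤ N]
  [Module.Finite ℤ M'] [Module.Free ℤ M'] [Module.Finite ℤ N'] [Module.Free ℤ N']
  {P : RootPairing ι ℤ M (Dual ℤ M)} {Q : RootPairing κ ℤ N (Dual ℤ N)}
  {P' : RootPairing ι' ℤ M' (Dual ℤ M')} {Q' : RootPairing κ' ℤ N' (Dual ℤ N')}
  (hP : P.toLinearMap = Dual.eval ℤ M) (hQ : Q.toLinearMap = Dual.eval ℤ N)
  (hP' : P'.toLinearMap = Dual.eval ℤ M') (hQ' : Q'.toLinearMap = Dual.eval ℤ N')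

/-- Equivalences of direct sums. -/
noncomputable def prodEquiv (h : RootPairing.Equiv P P') (g : RootPairing.Equiv Q Q') :
    RootPairing.Equiv (prodPairing P Q hP hQ) (prodPairing P' Q' hP' hQ') :=
  equivOfDual rfl rfl
    ((LinearEquiv.ofBijective _ h.bijective_weightMap).prodCongr (LinearEquiv.ofBijective _ g.bijective_weightMap))
    (Equiv.sumCongr h.indexEquiv g.indexEquiv)
    (by
      rintro (i | j)
      · refine Prod.ext ?_ ?_
        · exact congrFun h.root_weightMap i
        · exact map_zero g.weightMap
      · refine Prod.ext ?_ ?_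
        · exact map_zero h.weightMap
        · exact congrFun g.root_weightMap j)
    (by
      rintro (i | j) ⟨m, n⟩
      · exact coroot_comp hP hP' h i m
      · exact coroot_comp hQ hQ' g j n)

end Prod

end K798.DatumOps
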