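import Groth.Agent.Red.K216.DecDef

/-!
# Operations on decompositions

* `Dec.ofIso`, `Dec.reindex`, `Dec.prod`, `Dec.single`, `Dec.empty`.
-/

set_option autoImplicit false
universe u

open CategoryTheory MonoidalCategory CartesianMonoidalCategory MonObj GrpObj AlgebraicGeometry

namespace K798.DecOps

open K216.DecDef

variable {V : Scheme.{u}}

/-- the trivial homomorphism -/
lemma isMonHom_one {G H : Over V} [GrpObj G] [GrpObj H] : IsMonHom (1 : G ⟶ H) := by
  rw [Hom.one_def]
  infer_instance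

/-- Transport along an isomorphism. -/
def ofIso {G G' : Over V} [GrpObj G] [GrpObj G'] (e : G ≅ G') [IsMonHom e.hom] {J : Type} (D : Dec G' J) :
    Dec G J where
  H := D.H
  grp := D.grp
  p j := e.hom ≫ D.p j
  i j := D.i j ≫ e.inv
  p_hom j := by
    have := D.p_hom j
    infer_instance
  i_hom j := by
    have := D.i_hom j
    have : IsMonHom e.inv := inferInstance
    infer_instance
  ip j := by
    rw [Category.assoc, e.inv_hom_id_assoc, D.ip]
  ip_ne j k hjk := by
    rw [Category.assoc, e.inv_hom_id_assoc, D.ip_ne j k hjk]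
  exists_lift X y := by
    obtain ⟨x, hx⟩ := D.exists_lift X y
    exact ⟨x ≫ e.inv, fun j => by rw [Category.assoc, e.inv_hom_id_assoc, hx]⟩
  ext X x x' h := by
    rw [← cancel_mono e.hom]
    refine D.ext X _ _ fun j => ?_
    rw [Category.assoc, Category.assoc]
    exact h j
  ss := D.ss
  simple := D.simple

/-- Change of the index set. -/
def reindex {G : Over V} [GrpObj G] {J J' : Type} (σ : J' ≃ J) (D : Dec G J) : Dec G J' where
  H j := D.H (σ j)
  grp j := D.grp (σ j)
  p j := D.p (σ j)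
  i j := D.i (σ j)
  p_hom j := D.p_hom (σ j)
  i_hom j := D.i_hom (σ j)
  ip j := D.ip (σ j)
  ip_ne j k hjk := D.ip_ne _ _ (fun h => hjk (σ.injective h))
  exists_lift X y := by
    have key : ∀ (y' : ∀ j, X ⟶ D.H j), ∃ x : X ⟶ G, ∀ j, x ≫ D.p j = y' j := D.exists_lift X
    obtain ⟨x, hx⟩ := key (fun j => Eq.rec (motive := fun j _ => X ⟶ D.H j) (y (σ.symm j)) (σ.apply_symm_apply j))
    refine ⟨x, fun j => ?_⟩
    rw [hx]
    have aux : ∀ (j' : J') (h : σ j' = σ j), Eq.rec (motive := fun j _ => X ⟶ D.H j) (y j') h = y j := by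
      intro j' h
      obtain rfl := σ.injective h
      rfl
    exact aux (σ.symm (σ j)) _
  ext X x x' h := D.ext X x x' fun j => by
    obtain ⟨j, rfl⟩ := σ.surjective j
    exact h j
  ss j := D.ss (σ j)
  simple j := D.simple (σ j)

/-- The decomposition with one factor. -/
def single {G : Over V} [GrpObj G] (hss : Red.IsSemisimple G) (hs : SimpleFibres G) : Dec G (Fin 1) where
  H _ := G
  p _ := 𝟙 G
  i _ := 𝟙 G
  p_hom _ := inferInstance
  i_hom _ := inferInstance
  ip _ := Category.comp_id _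
  ip_ne j k hjk := absurd (Subsingleton.elim j k) hjk
  exists_lift X y := ⟨y 0, fun j => by rw [Category.comp_id, Subsingleton.elim j 0]⟩
  ext X x x' h := by simpa using h 0
  ss _ := hss
  simple _ := hs

/-- The decomposition without factors. -/
def empty {G : Over V} [GrpObj G] (h : ∀ (X : Over V) (x x' : X ⟶ G), x = x') : Dec G (Fin 0) where
  H _ := G
  p j := j.elim0
  i j := j.elim0
  p_hom j := j.elim0
  i_hom j := j.elim0
  ip j := j.elim0
  ip_ne j := j.elim0
  exists_lift _ _ := ⟨1, fun j => j.elim0⟩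
  ext X x x' _ := h X x x'
  ss j := j.elim0
  simple j := j.elim0

section Prod

variable {G₁ G₂ : Over V} [GrpObj G₁] [GrpObj G₂] {J₁ J₂ : Type}

/-- the factors of a product -/
def HH (A : Dec G₁ J₁) (B : Dec G₂ J₂) : J₁ ⊕ J₂ → Over V
  | .inl a => A.H a
  | .inr b => B.H b

/-- the group structures -/
@[instance_reducible]
def gg (A : Dec G₁ J₁) (B : Dec G₂ J₂) : ∀ j, GrpObj (HH A B j)
  | .inl a => A.grp a
  | .inr b => B.grp b

/-- the projections -/
noncomputable def pp (A : Dec G₁ J₁) (B : Dec G₂ J₂) : ∀ j, G₁ ⊗ G₂ ⟶ HH A B j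
  | .inl a => fst G₁ G₂ ≫ A.p a
  | .inr b => snd G₁ G₂ ≫ B.p b

/-- the inclusions -/
noncomputable def ii (A : Dec G₁ J₁) (B : Dec G₂ J₂) : ∀ j, HH A B j ⟶ G₁ ⊗ G₂
  | .inl a => lift (A.i a) 1
  | .inr b => lift 1 (B.i b)

lemma isMonHom_lift {G G₁ G₂ : Over V} [GrpObj G] [GrpObj G₁] [GrpObj G₂] (f : G ⟶ G₁) (g : G ⟶ G₂)
    (hf : IsMonHom f) (hg : IsMonHom g) : IsMonHom (lift f g) := inferInstance

/-- The decomposition of a product. -/
noncomputable def prod (A : Dec G₁ J₁) (B : Dec G₂ J₂) : Dec (G₁ ⊗ G₂) (J₁ ⊕ J₂) where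
  H := HH A B
  grp := gg A B
  p := pp A B
  i := ii A B
  p_hom := by
    rintro (a | b)
    · have := A.p_hom a
      change IsMonHom (fst G₁ G₂ ≫ A.p a)
      infer_instance
    · have := B.p_hom b
      change IsMonHom (snd G₁ G₂ ≫ B.p b)
      infer_instance
  i_hom := by
    rintro (a | b)
    · exact isMonHom_lift (A.i a) 1 (A.i_hom a) isMonHom_one
    · exact isMonHom_lift 1 (B.i b) isMonHom_one (B.i_hom b)
  ip := by
    rintro (a | b)
    · change lift (A.i a) 1 ≫ fst G₁ G₂ ≫ A.p a = 𝟙 _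
      rw [lift_fst_assoc, A.ip]
    · change lift 1 (B.i b) ≫ snd G₁ G₂ ≫ B.p b = 𝟙 _
      rw [lift_snd_assoc, B.ip]
  ip_ne := by
    rintro (a | b) (a' | b') h
    · change lift (A.i a) 1 ≫ fst G₁ G₂ ≫ A.p a' = 1
      rw [lift_fst_assoc, A.ip_ne a a' (fun h' => h (congrArg _ h'))]
    · have := B.p_hom b'
      change lift (A.i a) 1 ≫ snd G₁ G₂ ≫ B.p b' = 1
      rw [lift_snd_assoc, MonObj.one_comp]
    · have := A.p_hom a'
      change lift 1 (B.i b) ≫ fst G₁ G₂ ≫ A.p a' = 1
      rw [lift_fst_assoc, MonObj.one_comp]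
    · change lift 1 (B.i b) ≫ snd G₁ G₂ ≫ B.p b' = 1
      rw [lift_snd_assoc, B.ip_ne b b' (fun h' => h (congrArg _ h'))]
  exists_lift X y := by
    obtain ⟨x₁, h₁⟩ := A.exists_lift X (fun a => y (.inl a))
    obtain ⟨x₂, h₂⟩ := B.exists_lift X (fun b => y (.inr b))
    refine ⟨lift x₁ x₂, ?_⟩
    rintro (a | b)
    · change lift x₁ x₂ ≫ fst G₁ G₂ ≫ A.p a = _
      rw [lift_fst_assoc]
      exact h₁ a
    · change lift x₁ x₂ ≫ snd G₁ G₂ ≫ B.p b = _
      rw [lift_snd_assoc]
      exact h₂ b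
  ext X x x' h := by
    apply CartesianMonoidalCategory.hom_ext
    · refine A.ext X _ _ fun a => ?_
      rw [Category.assoc, Category.assoc]
      exact h (.inl a)
    · refine B.ext X _ _ fun b => ?_
      rw [Category.assoc, Category.assoc]
      exact h (.inr b)
  ss := by
    rintro (a | b)
    · exact A.ss a
    · exact B.ss b
  simple := by
    rintro (a | b)
    · exact A.simple a
    · exact B.simple b

end Prod

end K798.DecOps
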