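import Groth.Agent.Red.K798.DatumOps
import Groth.Agent.Red.K798.DecOps
import Groth.Agent.S3950
import Groth.Agent.S3005
import Groth.Agent.AGF.K493.SsRank
import Groth.Agent.AGF.K499.AlmostSimple
import Groth.Agent.LieWt.K929.LieNoRoot

/-!
# A split simply connected group is a product of groups with simple geometric fibres

Node L of S16645, modulo the nodes A (root data) and P (products of split groups), taken as hypotheses.
-/

set_option autoImplicit false
universe u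

open CategoryTheory MonoidalCategory CartesianMonoidalCategory MonObj GrpObj AlgebraicGeometry

namespace K798.NodeL

open K216.DecDef K798.DatumOps K798.DecOps Groth.Agent Groth.Agent.Sga3B Groth.Agent.Sga3B.RedIso
open Groth.Agent.Sga3B.DSPts

/-- The statement of node A. -/
def NodeA : Prop :=
  ∀ {σ M : Type} [Fintype σ] [AddCommGroup M] [Module.Finite ℤ M] [Module.Free ℤ M]
    (P : RootPairing σ ℤ M (Module.Dual ℤ M)) (_ : P.toLinearMap = Module.Dual.eval ℤ M)
    (_ : Submodule.span ℤ (Set.range P.coroot) = ⊤) (_ : P.IsReduced) (I : Set σ)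
    (_ : ∀ a b, a ∈ I → b ∉ I → P.pairing a b = 0),
    ∃ (M₁ M₂ : Type) (_ : AddCommGroup M₁) (_ : AddCommGroup M₂) (_ : Module.Finite ℤ M₁) (_ : Module.Free ℤ M₁)
      (_ : Module.Finite ℤ M₂) (_ : Module.Free ℤ M₂)
      (P₁ : RootPairing I ℤ M₁ (Module.Dual ℤ M₁)) (P₂ : RootPairing (Iᶜ : Set σ) ℤ M₂ (Module.Dual ℤ M₂))
      (h₁ : P₁.toLinearMap = Module.Dual.eval ℤ M₁) (h₂ : P₂.toLinearMap = Module.Dual.eval ℤ M₂),
      P₁.IsReduced ∧ P₂.IsReduced ∧
      Submodule.span ℤ (Set.range P₁.coroot) = ⊤ ∧ Submodule.span ℤ (Set.range P₂.coroot) = ⊤ ∧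
      Nonempty (RootPairing.Equiv P (prodPairing P₁ P₂ h₁ h₂))

/-- The statement of node P. -/
def NodeP : Prop :=
  ∀ {S : Scheme.{u}} {G H : Over S} [GrpObj G] [GrpObj H] (D : Red.SplitRed G) (E : Red.SplitRed H),
    Red.IsSplitOfType (prodPairing D.P E.P D.pairing_eq E.pairing_eq) (G ⊗ H)

variable {V : Scheme.{u}} {G : Over V} [GrpObj G]

/-- A split simply connected group is semisimple. -/
theorem isSemisimple [Nonempty V] (D : Red.SplitRed G) (hsc : Submodule.span ℤ (Set.range D.P.coroot) = ⊤) :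
    Red.IsSemisimple G := by
  rw [K493.SsRank.isSemisimple_iff_finrank D]
  have h1 : Module.finrank ℤ (D.P.corootSpan ℤ) = Module.finrank ℤ (Submodule.span ℤ (Set.range D.P.root)) :=
    D.P.finrank_corootSpan_eq'
  have h2 : D.P.corootSpan ℤ = Submodule.span ℤ (Set.range D.P.coroot) := rfl
  rw [← h1, h2, hsc, finrank_top, Module.finrank_linearMap_self]

/-- The geometric fibres in the indecomposable case. -/
theorem simpleFibres [Nonempty V] (D : Red.SplitRed G) (hsc : Submodule.span ℤ (Set.range D.P.coroot) = ⊤)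
    (hne : Nonempty D.idx)
    (hind : ∀ S : Set D.idx, (∀ a ∈ S, ∀ b ∉ S, D.P.pairing a b = 0) → (S = ∅ ∨ S = Set.univ)) :
    SimpleFibres G := by
  intro K _ _ t
  have hss := RedBcAny636.isSemisimple_bc t (isSemisimple D hsc)
  refine ⟨fun htriv => ?_, fun N _ j _ h1 h2 h3 h4 =>
    K499.NormRoot.trivial_or_iso (SplitBc264.splitBc t D) hss hind j h1 h2 h3 h4⟩
  refine K499.NormRoot.not_comm (SplitBc264.splitBc t D) hne fun X g h => ?_
  have hiso : IsIso (Red.bc t G).hom := htriv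
  have hgh : g = h := by
    apply Over.OverMorphism.ext
    rw [← cancel_mono (Red.bc t G).hom, Over.w, Over.w]
  rw [hgh]

/-- A split group without roots with trivial character group has only trivial points. -/
theorem eq_of_isEmpty (D : Red.SplitRed G) [IsEmpty D.idx] (hM : Subsingleton D.M) (X : Over V) (x x' : X ⟶ G) :
    x = x' := by
  have key : ∀ x : X ⟶ G, ∃ t : X ⟶ D.T, t ≫ D.i = x := by
    intro x
    obtain ⟨t, ht, -⟩ := (Groth.Agent.S2962.result D X x).1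
      (fun X' y h => K929.LieRoot.comm_of_isEmpty D (y ≫ x) h)
    exact ⟨t, ht⟩
  obtain ⟨t, rfl⟩ := key x
  obtain ⟨t', rfl⟩ := key x'
  have h1 : t ≫ (und D.split).hom = t' ≫ (und D.split).hom := by
    rw [← dsEquiv_dsChar (t ≫ (und D.split).hom), ← dsEquiv_dsChar (t' ≫ (und D.split).hom)]
    congr 1
    refine MonoidHom.ext fun m => ?_
    have hm : m = 1 := by
      apply Multiplicative.toAdd.injective
      exact Subsingleton.elim _ _
    rw [hm, map_one, map_one]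
  rw [cancel_mono] at h1
  rw [h1]

theorem nodeL_aux [Nonempty V] (hA : NodeA) (hP : NodeP.{u}) : ∀ (n : ℕ) (G : Over V) [GrpObj G]
    (D : Red.SplitRed G) (_ : Submodule.span ℤ (Set.range D.P.coroot) = ⊤) (_ : Fintype.card D.idx = n),
    ∃ r : ℕ, Nonempty (Dec G (Fin r)) := by
  intro n
  induction n using Nat.strong_induction_on with
  | _ n ih =>
  intro G _ D hsc hn
  have hss := isSemisimple D hsc
  rcases isEmpty_or_nonempty D.idx with hE | hE
  · refine ⟨0, ⟨empty fun X x x' => eq_of_isEmpty D ?_ X x x'⟩⟩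
    have h1 : Module.finrank ℤ (Module.Dual ℤ D.M) = 0 := by
      rw [← finrank_top, ← hsc, Set.range_eq_empty, Submodule.span_empty, finrank_bot]
    rw [Module.finrank_linearMap_self] at h1
    exact Module.finrank_zero_iff.1 h1
  by_cases hind : ∀ S : Set D.idx, (∀ a ∈ S, ∀ b ∉ S, D.P.pairing a b = 0) → (S = ∅ ∨ S = Set.univ)
  · exact ⟨1, ⟨single hss (simpleFibres D hsc hE hind)⟩⟩
  push Not at hind
  obtain ⟨I, hI, hI0, hI1⟩ := hind
  have hred : D.P.IsReduced := SplitReduced415.isReduced D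
  obtain ⟨M₁, M₂, _, _, _, _, _, _, P₁, P₂, h₁, h₂, hr₁, hr₂, hs₁, hs₂, ⟨e⟩⟩ :=
    hA D.P D.pairing_eq hsc hred I (fun a b ha hb => hI a ha b hb)
  classical
  obtain ⟨b₁⟩ := BaseZ.nonempty_base P₁
  obtain ⟨b₂⟩ := BaseZ.nonempty_base P₂
  obtain ⟨G₁, _, D₁, e₁, -⟩ := Groth.Agent.S3950.result V P₁ b₁
  obtain ⟨G₂, _, D₂, e₂, -⟩ := Groth.Agent.S3950.result V P₂ b₂
  have hc₁ : Fintype.card D₁.idx < n := by
    rw [← hn]
    have h3 : Fintype.card D₁.idx = Fintype.card I := Fintype.card_congr e₁.indexEquiv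
    rw [h3]
    have h4 : ∃ x, x ∉ I := by
      by_contra hcon
      push Not at hcon
      exact hI1 (Set.eq_univ_of_forall hcon)
    obtain ⟨x, hx⟩ := h4
    exact Fintype.card_subtype_lt (x := x) hx
  have hc₂ : Fintype.card D₂.idx < n := by
    rw [← hn]
    have h3 : Fintype.card D₂.idx = Fintype.card (Iᶜ : Set D.idx) := Fintype.card_congr e₂.indexEquiv
    rw [h3]
    obtain ⟨x, hx⟩ := hI0
    exact Fintype.card_subtype_lt (x := x) (by simpa using hx)
  obtain ⟨r₁, ⟨A₁⟩⟩ := ih _ hc₁ G₁ D₁.toSplitRed (span_coroot_of_equiv e₁ hs₁) rfl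
  obtain ⟨r₂, ⟨A₂⟩⟩ := ih _ hc₂ G₂ D₂.toSplitRed (span_coroot_of_equiv e₂ hs₂) rfl
  obtain ⟨E, ⟨e₃⟩⟩ := hP D₁.toSplitRed D₂.toSplitRed
  have hT : Red.IsSplitOfType (prodPairing P₁ P₂ h₁ h₂) (G₁ ⊗ G₂) :=
    ⟨E, ⟨(prodEquiv D₁.pairing_eq D₂.pairing_eq h₁ h₂ e₁ e₂).comp e₃⟩⟩
  obtain ⟨φ⟩ := Groth.Agent.S3005.result V (prodPairing P₁ P₂ h₁ h₂) G (G₁ ⊗ G₂) ⟨D, ⟨e⟩⟩ hT
  exact ⟨r₁ + r₂, ⟨ofIso (und φ) (reindex finSumFinEquiv.symm (prod A₁ A₂))⟩⟩

/-- NODE L, modulo nodes A and P. -/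
theorem nodeL_of [Nonempty V] (hA : NodeA) (hP : NodeP.{u}) (D : Red.SplitRed G)
    (hsc : Submodule.span ℤ (Set.range D.P.coroot) = ⊤) :
    ∃ r : ℕ, Nonempty (Dec G (Fin r)) :=
  nodeL_aux hA hP _ G D hsc rfl

end K798.NodeL
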