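import Groth.Agent.Red.K798.NodeL2
import Groth.Agent.Red.K123.SplitProd

/-!
# Node L of S16645

A split reductive group over a nonempty base whose coroots generate the cocharacter lattice is a finite product of
groups with irreducible root systems (`K216.DecDef.Dec`).
-/

set_option autoImplicit false
universe u

open CategoryTheory MonoidalCategory CartesianMonoidalCategory MonObj GrpObj AlgebraicGeometry

namespace K798.NodeL

open K216.DecDef

/-- NODE L. -/
theorem nodeL_full {V : Scheme.{u}} [Nonempty V] {G : Over V} [GrpObj G] (D : Red.SplitRed G)
    (hsc : Submodule.span ℤ (Set.range D.P.coroot) = ⊤) :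
    ∃ r : ℕ, Nonempty (Dec G (Fin r)) :=
  nodeL_of_nodeP (fun D E => K123.SplitProd.nodeP D E) D hsc

end K798.NodeL
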